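import Groth.Agent.H16Derived.ExactAdj
import Mathlib.Algebra.Homology.ShortComplex.PreservesHomology
import Mathlib.Algebra.Homology.DerivedCategory.HomologySequence
import Mathlib.CategoryTheory.Monad.Adjunction

/-!
# Derived functors of an exact fully faithful right adjoint
-/

set_option autoImplicit false
set_option linter.style.haveILetI false

open CategoryTheory CategoryTheory.Limits

namespace Groth.Agent.H26DerPush

universe w₁ w₂ v₁ v₂ u₁ u₂

variable {A : Type u₁} [Category.{v₁} A] [Abelian A] [HasDerivedCategory.{w₁} A]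
  {B : Type u₂} [Category.{v₂} B] [Abelian B] [HasDerivedCategory.{w₂} B]

/-- An exact functor commutes with cohomology, naturally. -/
noncomputable def homologyIso (G : A ⥤ B) [G.Additive] [PreservesFiniteLimits G] [PreservesFiniteColimits G]
    (n : ℤ) : G.mapDerivedCategory ⋙ DerivedCategory.homologyFunctor B n ≅
      DerivedCategory.homologyFunctor A n ⋙ G :=
  Localization.liftNatIso DerivedCategory.Q (HomologicalComplex.quasiIso A (ComplexShape.up ℤ))
    (DerivedCategory.Q ⋙ G.mapDerivedCategory ⋙ DerivedCategory.homologyFunctor B n)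
    (DerivedCategory.Q ⋙ DerivedCategory.homologyFunctor A n ⋙ G) _ _
    ((Functor.associator _ _ _).symm ≪≫ Functor.isoWhiskerRight G.mapDerivedCategoryFactors _ ≪≫
      Functor.associator _ _ _ ≪≫
      Functor.isoWhiskerLeft _ (DerivedCategory.homologyFunctorFactors B n) ≪≫
      (NatIso.ofComponents (fun K => (K.sc n).mapHomologyIso G)
        (fun f => ShortComplex.mapHomologyIso_hom_naturality
          ((HomologicalComplex.shortComplexFunctor A (ComplexShape.up ℤ) n).map f) G) :
        G.mapHomologicalComplex (ComplexShape.up ℤ) ⋙ HomologicalComplex.homologyFunctor B (ComplexShape.up ℤ) n ≅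
          HomologicalComplex.homologyFunctor A (ComplexShape.up ℤ) n ⋙ G) ≪≫
      Functor.isoWhiskerRight (DerivedCategory.homologyFunctorFactors A n).symm G ≪≫
      Functor.associator _ _ _)

variable {G : A ⥤ B} {F : B ⥤ A} [G.Additive] [F.Additive] [PreservesFiniteLimits G] [PreservesFiniteColimits G]
  [PreservesFiniteLimits F] [PreservesFiniteColimits F]

/-- The counit of the derived adjunction. -/
theorem isIso_counit (adj : G ⊣ F) [IsIso adj.counit] :
    IsIso (H16Derived.ExactAdj.mapDerivedCategoryAdj adj).counit := by
  refine Adjunction.isIso_counit_of_iso _ (Localization.liftNatIso DerivedCategory.Q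
    (HomologicalComplex.quasiIso B (ComplexShape.up ℤ))
    (DerivedCategory.Q ⋙ F.mapDerivedCategory ⋙ G.mapDerivedCategory) (DerivedCategory.Q ⋙ 𝟭 _) _ _ ?_)
  exact (Functor.associator _ _ _).symm ≪≫ Functor.isoWhiskerRight F.mapDerivedCategoryFactors _ ≪≫
    Functor.associator _ _ _ ≪≫ Functor.isoWhiskerLeft _ G.mapDerivedCategoryFactors ≪≫
    (Functor.associator _ _ _).symm ≪≫
    Functor.isoWhiskerRight ((NatIso.ofComponents (fun C =>
        HomologicalComplex.Hom.isoOfComponents (fun i => (asIso adj.counit).app (C.X i))
          (fun i j _ => (adj.counit.naturality (C.d i j)).symm))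
      (fun φ => HomologicalComplex.hom_ext _ _ fun i => adj.counit.naturality (φ.f i))) :
      F.mapHomologicalComplex _ ⋙ G.mapHomologicalComplex _ ≅ 𝟭 _) _ ≪≫
    Functor.leftUnitor _ ≪≫ (Functor.rightUnitor _).symm

/-- The derived functor of an exact fully faithful right adjoint is fully faithful. -/
theorem full_faithful (adj : G ⊣ F) [IsIso adj.counit] :
    F.mapDerivedCategory.Full ∧ F.mapDerivedCategory.Faithful :=
  haveI := isIso_counit adj
  let h := (H16Derived.ExactAdj.mapDerivedCategoryAdj adj).fullyFaithfulROfIsIsoCounit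
  ⟨h.full, h.faithful⟩

/-- The derived essential image of an exact fully faithful right adjoint. -/
theorem essImage_iff (adj : G ⊣ F) [IsIso adj.counit] (K : DerivedCategory A) :
    F.mapDerivedCategory.essImage K ↔ ∀ n : ℤ, F.essImage ((DerivedCategory.homologyFunctor A n).obj K) := by
  haveI := isIso_counit adj
  let a := H16Derived.ExactAdj.mapDerivedCategoryAdj adj
  constructor
  · rintro ⟨L, ⟨e⟩⟩ n
    exact ⟨_, ⟨(((homologyIso F n).app L).symm ≪≫ (DerivedCategory.homologyFunctor A n).mapIso e)⟩⟩
  · intro h
    let L := G.mapDerivedCategory.obj K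
    haveI h1 : IsIso (G.mapDerivedCategory.map (a.unit.app K)) := by
      haveI : IsIso (a.counit.app (G.mapDerivedCategory.obj K)) := inferInstance
      have ht := a.left_triangle_components K
      have : G.mapDerivedCategory.map (a.unit.app K) = inv (a.counit.app (G.mapDerivedCategory.obj K)) :=
        IsIso.eq_inv_of_inv_hom_id ht
      rw [this]
      infer_instance
    suffices h2 : IsIso (a.unit.app K) from ⟨L, ⟨(asIso (a.unit.app K)).symm⟩⟩
    rw [DerivedCategory.isIso_iff]
    intro n
    let f : (DerivedCategory.homologyFunctor A n).obj K ⟶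
        (DerivedCategory.homologyFunctor A n).obj (F.mapDerivedCategory.obj L) :=
      (DerivedCategory.homologyFunctor A n).map (a.unit.app K)
    show IsIso f
    haveI hGf : IsIso (G.map f) :=
      (NatIso.isIso_map_iff (homologyIso G n) (a.unit.app K)).1
        (Functor.map_isIso (DerivedCategory.homologyFunctor B n) (G.mapDerivedCategory.map (a.unit.app K)))
    haveI := adj.fullyFaithfulROfIsIsoCounit.full
    haveI := adj.fullyFaithfulROfIsIsoCounit.faithful
    have hu : ∀ X, F.essImage X → IsIso (adj.unit.app X) := fun X ⟨Y, ⟨e⟩⟩ => adj.isIso_unit_app_of_iso e.symm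
    haveI := hu _ (h n)
    haveI := hu _ (⟨_, ⟨((homologyIso F n).app L).symm⟩⟩ :
      F.essImage ((DerivedCategory.homologyFunctor A n).obj (F.mapDerivedCategory.obj L)))
    haveI : IsIso (adj.unit.app _ ≫ F.map (G.map f)) := inferInstance
    have hn : IsIso (f ≫ adj.unit.app _) := by
      rw [show f ≫ adj.unit.app _ = adj.unit.app _ ≫ F.map (G.map f) from adj.unit.naturality f]
      infer_instance
    exact IsIso.of_isIso_comp_right f (adj.unit.app _)

end Groth.Agent.H26DerPush
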